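import Mathlib
import Cfsg.Agent.Lib.PrimeBlock.Tools
import Cfsg.Agent.Lib.Characters.Galois
import Cfsg.Agent.BlockCharsA.PConjugate
import Cfsg.Agent.BlockCharsA.DefectZeroVanish

/-!
# Integral sums of the irreducible characters of a given degree

For each `d` the sum of the irreducible characters of degree `d` is fixed by all field
automorphisms, so it has rational integer values.
-/

set_option autoImplicit false
set_option linter.unusedSectionVars false
set_option linter.style.haveILetI false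

namespace Cfsg.Agent.DegPSL

open Cfsg.Agent.Characters Cfsg.Agent.Blocks
open scoped ComplexConjugate

universe u

variable {G : Type u} [Group G] [Finite G]

/-- The degree of an irreducible character, as a natural number. -/
noncomputable def dg (χ : Cfsg.IrrCharacter G) : ℕ := Cfsg.charDegree (χ : G → ℂ)

theorem dg_cast (χ : Cfsg.IrrCharacter G) : (dg χ : ℂ) = (χ : G → ℂ) 1 :=
  BlocksChars.Degrees.charDegree_cast χ

theorem dg_eq_iff (χ : Cfsg.IrrCharacter G) (d : ℕ) : dg χ = d ↔ (χ : G → ℂ) 1 = (d : ℂ) := by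
  rw [← dg_cast, Nat.cast_inj]

theorem dg_pos (χ : Cfsg.IrrCharacter G) : 0 < dg χ := BlocksChars.Degrees.charDegree_pos χ

variable [Fintype (Cfsg.IrrCharacter G)]

/-- The characters of degree `d`. -/
noncomputable def ofDeg (G : Type u) [Group G] [Finite G] [Fintype (Cfsg.IrrCharacter G)] (d : ℕ) :
    Finset (Cfsg.IrrCharacter G) :=
  Finset.univ.filter fun χ => dg χ = d

@[simp] theorem mem_ofDeg {d : ℕ} {χ : Cfsg.IrrCharacter G} : χ ∈ ofDeg G d ↔ dg χ = d := by
  simp [ofDeg]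

theorem card_ofDeg (d : ℕ) :
    (ofDeg G d).card = Nat.card {χ : Cfsg.IrrCharacter G // (χ : G → ℂ) 1 = (d : ℂ)} := by
  classical
  rw [Nat.card_eq_fintype_card, Fintype.card_subtype]
  exact congrArg Finset.card (Finset.filter_congr fun χ _ => dg_eq_iff χ d)

/-- A sum over all irreducible characters, collected by degree. -/
theorem sum_by_deg {M : Type*} [AddCommMonoid M] {T : Finset ℕ}
    (hT : ∀ χ : Cfsg.IrrCharacter G, dg χ ∈ T) (f : Cfsg.IrrCharacter G → M) :
    ∑ χ, f χ = ∑ d ∈ T, ∑ χ ∈ ofDeg G d, f χ :=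
  (Finset.sum_fiberwise_of_maps_to (fun χ _ => hT χ) f).symm

/-- The sum of the characters of degree `d` is rational at every element. -/
theorem sumDeg_rational (d : ℕ) (g : G) :
    ∃ r : ℚ, ∑ χ ∈ ofDeg G d, (χ : G → ℂ) g = (r : ℂ) := by
  classical
  haveI := Fintype.ofFinite G
  set f : G → ℂ := fun x => ∑ χ ∈ ofDeg G d, (χ : G → ℂ) x with hf
  have hfix : ∀ (σ : ℂ ≃+* ℂ) (x : G), σ (f x) = f x := by
    intro σ x
    simp only [hf, map_sum]
    let E : Cfsg.IrrCharacter G → Cfsg.IrrCharacter G := fun χ =>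
      ⟨fun y => σ ((χ : G → ℂ) y), BlockCharsA.PConjugate.isIrr_aut σ χ.2⟩
    have hE : Function.Injective E := fun χ ψ e => by
      apply Subtype.ext
      funext y
      exact σ.injective (congrFun (congrArg Subtype.val e) y)
    have hmem : ∀ χ, E χ ∈ ofDeg G d ↔ χ ∈ ofDeg G d := fun χ => by
      simp only [mem_ofDeg, dg_eq_iff]
      exact ⟨fun e => σ.injective (e.trans (map_natCast σ d).symm), fun e => by
        show σ ((χ : G → ℂ) 1) = _
        rw [e, map_natCast]⟩
    exact Finset.sum_bij (fun χ _ => E χ) (fun χ hχ => (hmem χ).2 hχ) (fun χ _ ψ _ e => hE e)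
      (fun ψ hψ => by
        obtain ⟨χ, rfl⟩ := (Finite.injective_iff_surjective.1 hE) ψ
        exact ⟨χ, (hmem χ).1 hψ, rfl⟩)
      (fun χ _ => rfl)
  obtain ⟨n, ρ, hρ⟩ := isCharacter_sum (ofDeg G d)
    (fun χ : Cfsg.IrrCharacter G => (χ : G → ℂ)) fun χ _ => irr_isCharacter χ
  have hρ' : ∀ x, ρ.character x = f x := fun x => by rw [hρ]; simp [hf]
  set M := Nat.card G with hMdef
  have hM : 0 < M := Nat.card_pos
  haveI : NeZero M := ⟨hM.ne'⟩
  set ζ := Complex.exp (2 * Real.pi * Complex.I / M)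
  have hζ : IsPrimitiveRoot ζ M := Complex.isPrimitiveRoot_exp M hM.ne'
  obtain ⟨P, hP⟩ := exists_poly_values ρ g hM pow_card_eq_one' hζ
  obtain ⟨r, hr⟩ := (exists_rat_sum_prod_primitiveRoots hM P).1
  have hall : ∀ μ ∈ primitiveRoots M ℂ, Polynomial.aeval μ P = f g := by
    intro μ hμ
    obtain ⟨k, _, hk, rfl⟩ := (hζ.isPrimitiveRoot_iff (ξ := μ) (k := M)).1
      ((mem_primitiveRoots hM).1 hμ)
    obtain ⟨σ, hσ⟩ := BlockCharsA.AlgAut.exists_aut hζ (ZMod.unitOfCoprime k hk)
    rw [ZMod.coe_unitOfCoprime, ZMod.val_natCast] at hσ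
    have h1 := hP 1
    rw [pow_one, pow_one, hρ'] at h1
    have hk' : ζ ^ (k % M) = ζ ^ k := by
      conv_rhs => rw [← Nat.mod_add_div k M, pow_add, pow_mul, hζ.pow_eq_one, one_pow, mul_one]
    rw [← hfix σ g, h1, ← hk', ← hσ]
    exact (Polynomial.aeval_algHom_apply (σ.toRingHom.toRatAlgHom) ζ P)
  rw [Finset.sum_congr rfl hall, Finset.sum_const, nsmul_eq_mul] at hr
  have hc : ((primitiveRoots M ℂ).card : ℂ) ≠ 0 := by
    exact_mod_cast (Finset.card_pos.2 ⟨ζ, (mem_primitiveRoots hM).2 hζ⟩).ne'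
  exact ⟨r / (primitiveRoots M ℂ).card, by
    rw [Rat.cast_div, Rat.cast_natCast, eq_div_iff hc, ← hr, mul_comm]⟩

/-- The sum of the characters of degree `d` has integer values. -/
theorem sumDeg_int (d : ℕ) (g : G) : ∃ v : ℤ, ∑ χ ∈ ofDeg G d, (χ : G → ℂ) g = (v : ℂ) := by
  obtain ⟨r, hr⟩ := sumDeg_rational d g
  obtain ⟨v, hv⟩ := exists_int_of_isIntegral_ratCast (q := r)
    (hr ▸ IsIntegral.sum _ fun χ _ => char_value_isIntegral (irr_isCharacter χ) g)
  exact ⟨v, by rw [hr, hv]⟩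

/-- The integer value at `g` of the sum of the characters of degree `d`. -/
noncomputable def val (d : ℕ) (g : G) : ℤ := (sumDeg_int d g).choose

theorem val_spec (d : ℕ) (g : G) : ∑ χ ∈ ofDeg G d, (χ : G → ℂ) g = (val d g : ℂ) :=
  (sumDeg_int d g).choose_spec

theorem val_one (d : ℕ) : val (G := G) d 1 = ((ofDeg G d).card : ℤ) * d := by
  apply Int.cast_injective (α := ℂ)
  rw [← val_spec, Finset.sum_congr rfl fun χ hχ => (dg_eq_iff χ d).1 (mem_ofDeg.1 hχ),
    Finset.sum_const, nsmul_eq_mul]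
  push_cast
  rfl

/-- Characters of degree with full `r`-part sum to zero at the `r`-singular elements. -/
theorem val_eq_zero {r : ℕ} (hr : r.Prime) {d : ℕ} (hd : r ^ (Nat.card G).factorization r ∣ d)
    {g : G} (hg : r ∣ orderOf g) : val d g = 0 := by
  apply Int.cast_injective (α := ℂ)
  rw [← val_spec, Int.cast_zero]
  refine Finset.sum_eq_zero fun χ hχ => ?_
  exact BlockCharsA.DefectZeroVanish.eq_zero_of_singular hr χ (by
    rw [show Cfsg.charDegree (χ : G → ℂ) = d from mem_ofDeg.1 hχ]; exact hd) hg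

/-- Column orthogonality with the first column. -/
theorem sum_deg_val {T : Finset ℕ} (hT : ∀ χ : Cfsg.IrrCharacter G, dg χ ∈ T) {g : G}
    (hg : g ≠ 1) : ∑ d ∈ T, (d : ℤ) * val d g = 0 := by
  classical
  apply Int.cast_injective (α := ℂ)
  push_cast
  have h := second_orthogonality (G := G) g 1
  rw [if_neg (fun e => hg (isConj_one_left.1 e)), sum_by_deg hT] at h
  rw [← h]
  refine Finset.sum_congr rfl fun d _ => ?_
  rw [← val_spec, Finset.mul_sum]
  refine Finset.sum_congr rfl fun χ hχ => ?_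
  rw [(dg_eq_iff χ d).1 (mem_ofDeg.1 hχ), Complex.conj_natCast, mul_comm]

theorem card_eq_sum {T : Finset ℕ} (hT : ∀ χ : Cfsg.IrrCharacter G, dg χ ∈ T) :
    Nat.card G = ∑ d ∈ T, (ofDeg G d).card * d ^ 2 := by
  apply Nat.cast_injective (R := ℂ)
  rw [← sum_degree_sq, sum_by_deg hT]
  push_cast
  refine Finset.sum_congr rfl fun d _ => ?_
  rw [Finset.sum_congr rfl fun χ hχ => by rw [(dg_eq_iff χ d).1 (mem_ofDeg.1 hχ)],
    Finset.sum_const, nsmul_eq_mul]

/-- The norm of the sum of the characters of degree `d`. -/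
theorem sum_val_sq [Fintype G] (d : ℕ) :
    ∑ g : G, val d g ^ 2 = (Nat.card G : ℤ) * (ofDeg G d).card := by
  classical
  apply Int.cast_injective (α := ℂ)
  push_cast
  have h : Cfsg.classInner (fun x => ∑ χ ∈ ofDeg G d, (χ : G → ℂ) x)
      (fun x => ∑ χ ∈ ofDeg G d, (χ : G → ℂ) x) = ((ofDeg G d).card : ℂ) := by
    have e : (fun x => ∑ χ ∈ ofDeg G d, (χ : G → ℂ) x) =
        ∑ χ ∈ ofDeg G d, (χ : G → ℂ) := by funext x; simp
    rw [e, classInner_sum_left]
    rw [Finset.sum_congr rfl (g := fun _ => (1 : ℂ)) fun χ hχ => ?_, Finset.sum_const, nsmul_one]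
    rw [classInner_sum_right, Finset.sum_eq_single χ]
    · exact classInner_isIrr_self χ.2
    · intro ψ _ hne
      exact classInner_isIrr_ne χ.2 ψ.2 fun e => hne (Subtype.ext e.symm)
    · exact fun h => absurd hχ h
  rw [classInner_def, inv_mul_eq_iff_eq_mul₀ natCard_ne_zero] at h
  rw [← h]
  refine Finset.sum_congr rfl fun g _ => ?_
  rw [val_spec, map_intCast]
  ring

theorem abs_val_le (d : ℕ) (g : G) : |val d g| ≤ ((ofDeg G d).card : ℤ) * d := by
  have h : ‖(val d g : ℂ)‖ ≤ (((ofDeg G d).card : ℤ) * d : ℤ) := by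
    rw [← val_spec]
    refine (norm_sum_le _ _).trans ((Finset.sum_le_sum (g := fun _ => (d : ℝ)) fun χ hχ => ?_).trans
      (le_of_eq (by rw [Finset.sum_const, nsmul_eq_mul]; push_cast; rfl)))
    have := char_norm_le (irr_isCharacter χ) g
    rwa [(dg_eq_iff χ d).1 (mem_ofDeg.1 hχ), Complex.norm_natCast] at this
  rw [Complex.norm_intCast] at h
  exact_mod_cast h

/-- The value of a character at an involution is congruent to its degree modulo `2`. -/
theorem two_dvd_sub {χ : G → ℂ} (hχ : Cfsg.IsCharacter G χ) {y : G} (hy : orderOf y = 2) {v : ℤ}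
    (hv : χ y = (v : ℂ)) {d : ℕ} (hd : χ 1 = (d : ℂ)) : (2 : ℤ) ∣ (d : ℤ) - v := by
  obtain ⟨M, hM⟩ := BlockCharsA.DefectZeroVanish.exists_modular Nat.prime_two
  obtain ⟨n, ρ, rfl⟩ := hχ
  obtain ⟨w, hw, h⟩ := exists_rootsOfUnity_sum ρ y
  have h0 := h 0
  have h1 := h 1
  rw [pow_zero, hd] at h0
  rw [pow_one, hv] at h1
  simp only [pow_zero] at h0
  simp only [pow_one] at h1
  have hc : Cong M (∑ i, w i) (∑ _i, (1 : ℂ)) :=
    cong_sum hM fun i _ => cong_one_of_pow_prime_pow hM (k := 1) (by rw [pow_one, ← hy]; exact hw i)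
  rw [← h0, ← h1] at hc
  have hi : Cfsg.MemLocalIdeal M (((v - (d : ℤ) : ℤ)) : ℂ) := by
    unfold Cong at hc; push_cast; exact hc
  have := (ideal_intCast_iff hM _).1 hi
  exact dvd_sub_comm.1 (by exact_mod_cast this)

/-- A `p`-group centralised by `y` on whose non-trivial translates a character vanishes. -/
theorem dvd_of_coset_vanish {p : ℕ} {u y : G} (hu : orderOf u = p) (hc : Commute u y) {χ : G → ℂ}
    (hχ : Cfsg.IsCharacter G χ) {v : ℤ} (hv : χ y = (v : ℂ))
    (hvan : ∀ t ∈ Subgroup.zpowers u, t ≠ 1 → χ (y * t) = 0) : (p : ℤ) ∣ v := by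
  classical
  haveI := Fintype.ofFinite G
  haveI := Fintype.ofFinite (Subgroup.zpowers u)
  have hy : y ∈ Subgroup.centralizer (Subgroup.zpowers u : Set G) := by
    rw [Subgroup.mem_centralizer_iff]
    intro t ht
    obtain ⟨k, rfl⟩ := Subgroup.mem_zpowers_iff.1 ht
    exact hc.zpow_left k
  have h := avg_coset_isIntegral (D := Subgroup.zpowers u) hy hχ
  rw [Finset.sum_eq_single (1 : Subgroup.zpowers u), Nat.card_zpowers, hu, OneMemClass.coe_one,
    mul_one, hv] at h
  · have hp0 : (p : ℂ) ≠ 0 := Nat.cast_ne_zero.2 (hu ▸ (orderOf_pos u).ne')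
    have : (((v : ℚ) / p : ℚ) : ℂ) = (p : ℂ)⁻¹ * (v : ℂ) := by
      push_cast; field_simp
    obtain ⟨z, hz⟩ := exists_int_of_isIntegral_ratCast (q := (v : ℚ) / p) (this ▸ h)
    refine ⟨z, ?_⟩
    rw [Rat.cast_div, Rat.cast_intCast, Rat.cast_natCast, div_eq_iff hp0] at hz
    rw [mul_comm]
    exact_mod_cast hz
  · intro t _ ht
    exact hvan t t.2 fun e => ht (Subtype.ext e)
  · simp

/-- In a perfect group no element is represented by `-1` in odd degree. -/
theorem value_ne_neg {χ : G → ℂ} (hperf : commutator G = ⊤) (hχ : Cfsg.IsCharacter G χ) {d : ℕ}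
    (hd : χ 1 = (d : ℂ)) (hodd : Odd d) (g : G) : χ g ≠ -(d : ℂ) := by
  intro he
  obtain ⟨n, ρ, rfl⟩ := hχ
  rw [ρ.char_one, Nat.cast_inj, Module.finrank_fin_fun] at hd
  subst hd
  have hn0 : (n : ℂ) ≠ 0 := Nat.cast_ne_zero.2 hodd.pos.ne'
  have hs := rep_apply_eq_smul_of_norm_eq ρ g (by rw [he, norm_neg, Complex.norm_natCast,
    Module.finrank_fin_fun])
  obtain ⟨c, hc⟩ := hs
  have htr : ρ.character g = c * n := by
    rw [Representation.character, hc, map_smul, LinearMap.trace_id, Module.finrank_fin_fun,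
      smul_eq_mul]
  have hc1 : c = -1 := mul_right_cancel₀ hn0 (by rw [← htr, he]; ring)
  let f : G →* ℂˣ := (LinearMap.det.comp ρ).toHomUnits
  have hf : f g = 1 := by
    have := Abelianization.commutator_subset_ker f (hperf ▸ Subgroup.mem_top g)
    exact MonoidHom.mem_ker.1 this
  have hdet : LinearMap.det (ρ g) = 1 := congrArg Units.val hf
  rw [hc, LinearMap.det_smul, LinearMap.det_id, Module.finrank_fin_fun, mul_one, hc1,
    hodd.neg_one_pow] at hdet
  norm_num at hdet

end Cfsg.Agent.DegPSL
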