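import Mathlib
import Cfsg.Agent.DegPSL.Values
import Cfsg.Agent.BlocksChars.SL2DegreeGraph
import Cfsg.Agent.Lib.PSLOrderSpectrum.Main
import Cfsg.Agent.Lib.Classical.Linear

/-!
# The degree data of `PSL₂(q)` for `q ≡ 1 (mod 4)`

`q = 2h - 1` with `h` odd. The degrees are `1, q, q + 1, q - 1, h`; `h - 1` does not occur.
-/

set_option autoImplicit false
set_option linter.unusedSectionVars false
set_option linter.style.haveILetI false

open scoped MatrixGroups

namespace Cfsg.Agent.DegPSL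

open Cfsg.Agent.Characters Cfsg.Agent.GL2.CountsSL Cfsg.Agent.BlocksChars.SL2Degrees

universe u

/-- The degree data shared with `PSL₂(q)`, `q = 2h - 1`. -/
structure Data (G : Type u) [Group G] [Finite G] [Fintype (Cfsg.IrrCharacter G)] (q h : ℕ) :
    Prop where
  hq : q + 1 = 2 * h
  hodd : Odd h
  h5 : 5 ≤ h
  card : Nat.card G = q * (q - 1) * h
  perfect : commutator G = ⊤
  one : (ofDeg G 1).card = 1
  st : (ofDeg G q).card = 1
  degs : ∀ χ : Cfsg.IrrCharacter G, dg χ ∈ ({1, q, q + 1, q - 1, h} : Finset ℕ)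

/-- The hypothesis of equal numbers in each degree gives a bijection preserving the degree. -/
theorem exists_degree_equiv {G : Type u} [Group G] [Finite G] {L : Type*} [Group L] [Finite L]
    (hcount : ∀ d : ℕ, Nat.card {χ : Cfsg.IrrCharacter G // (χ : G → ℂ) 1 = (d : ℂ)} =
      Nat.card {χ : Cfsg.IrrCharacter L // (χ : L → ℂ) 1 = (d : ℂ)}) :
    ∃ e : Cfsg.IrrCharacter G ≃ Cfsg.IrrCharacter L, ∀ χ, dg (e χ) = dg χ := by
  have hE : ∀ d : ℕ, Nonempty ({χ : Cfsg.IrrCharacter G // dg χ = d} ≃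
      {χ : Cfsg.IrrCharacter L // dg χ = d}) := fun d => by
    obtain ⟨e⟩ := Finite.card_eq.1 (hcount d)
    exact ⟨((Equiv.subtypeEquivRight fun χ => dg_eq_iff χ d).trans e).trans
      (Equiv.subtypeEquivRight fun χ => (dg_eq_iff χ d).symm)⟩
  exact ⟨Equiv.ofFiberEquiv fun d => (hE d).some, fun χ => Equiv.ofFiberEquiv_map _ χ⟩

theorem card_eq_of_count {G : Type u} [Group G] [Finite G] {L : Type*} [Group L] [Finite L]
    (hcount : ∀ d : ℕ, Nat.card {χ : Cfsg.IrrCharacter G // (χ : G → ℂ) 1 = (d : ℂ)} =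
      Nat.card {χ : Cfsg.IrrCharacter L // (χ : L → ℂ) 1 = (d : ℂ)}) :
    Nat.card G = Nat.card L := by
  classical
  haveI := Fintype.ofFinite (Cfsg.IrrCharacter G)
  haveI := Fintype.ofFinite (Cfsg.IrrCharacter L)
  obtain ⟨e, he⟩ := exists_degree_equiv hcount
  apply Nat.cast_injective (R := ℂ)
  rw [← sum_degree_sq, ← sum_degree_sq, ← e.sum_comp]
  exact Finset.sum_congr rfl fun χ _ => by rw [← dg_cast, ← dg_cast, he]

theorem perfect_of_count {G : Type u} [Group G] [Finite G] {L : Type*} [Group L] [Finite L]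
    (hL : commutator L = ⊤)
    (hcount : ∀ d : ℕ, Nat.card {χ : Cfsg.IrrCharacter G // (χ : G → ℂ) 1 = (d : ℂ)} =
      Nat.card {χ : Cfsg.IrrCharacter L // (χ : L → ℂ) 1 = (d : ℂ)}) :
    commutator G = ⊤ := by
  have h := hcount 1
  rw [Nat.cast_one, card_degree_one, card_degree_one, hL, Subgroup.index_top] at h
  exact Subgroup.index_eq_one.1 h

variable {F : Type u} [Field F] [Fintype F]

theorem commutator_psl (h4 : 4 ≤ Fintype.card F)
    (hodd : Odd (Fintype.card F) → 5 < Fintype.card F) :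
    commutator (Matrix.ProjectiveSpecialLinearGroup (Fin 2) F) = ⊤ := by
  haveI : IsSimpleGroup (Matrix.ProjectiveSpecialLinearGroup (Fin 2) F) :=
    Classical.Linear.isSimpleGroup_PSL_fin le_rfl fun _ => h4
  refine (IsSimpleGroup.eq_bot_or_eq_top_of_normal _ inferInstance).resolve_left fun hb => ?_
  have hcomm : ∀ a b : Matrix.ProjectiveSpecialLinearGroup (Fin 2) F, a * b = b * a := fun a b => by
    have := Subgroup.commutator_mem_commutator (Subgroup.mem_top a) (Subgroup.mem_top b)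
    rw [← commutator_def, hb, Subgroup.mem_bot] at this
    exact commutatorElement_eq_one_iff_mul_comm.1 this
  classical
  obtain ⟨χ, hχ⟩ := (BlocksChars.SL2DegreeGraph.degSet_psl (F := F) h4 hodd).2.1
  have h1 := irr_degree_one_of_comm hcomm χ.2
  rw [← dg_cast, Nat.cast_eq_one] at h1
  change dg χ = _ at hχ
  omega

theorem two_mul_card_psl (hodd : Odd (Fintype.card F)) :
    2 * Nat.card (Matrix.ProjectiveSpecialLinearGroup (Fin 2) F) =
      Fintype.card F * ((Fintype.card F - 1) * (Fintype.card F + 1)) := by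
  rw [← PSLOrderSpectrum.card_psl_two, Nat.gcd_eq_left]
  exact (Nat.Odd.sub_odd hodd odd_one).two_dvd

variable [DecidableEq F]

/-- The lift of a character of `PSL₂` to `SL₂`. -/
noncomputable def lift (χ : Cfsg.IrrCharacter (Matrix.ProjectiveSpecialLinearGroup (Fin 2) F)) :
    Cfsg.IrrCharacter SL(2, F) :=
  ⟨fun g => (χ : Matrix.ProjectiveSpecialLinearGroup (Fin 2) F → ℂ)
      (QuotientGroup.mk' (Subgroup.center SL(2, F)) g),
    isIrrCharacter_comp_surjective _ (QuotientGroup.mk'_surjective _) χ.2⟩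

theorem lift_one (χ : Cfsg.IrrCharacter (Matrix.ProjectiveSpecialLinearGroup (Fin 2) F)) :
    (lift χ : SL(2, F) → ℂ) 1 = (dg χ : ℂ) := by
  rw [dg_cast]; simp [lift]

theorem lift_injective : Function.Injective (lift (F := F)) := fun χ ψ e => by
  apply Subtype.ext
  funext x
  obtain ⟨g, rfl⟩ := QuotientGroup.mk'_surjective (Subgroup.center SL(2, F)) x
  exact congrFun (congrArg Subtype.val e) g

theorem psl_deg_cases {h : ℕ} (hh : Fintype.card F + 1 = 2 * h)
    (χ : Cfsg.IrrCharacter (Matrix.ProjectiveSpecialLinearGroup (Fin 2) F)) :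
    dg χ ∈ ({1, Fintype.card F, Fintype.card F + 1, Fintype.card F - 1, h, h - 1} : Finset ℕ) := by
  obtain ⟨i, hi⟩ := exists_kind (lift χ).2
  have h2 := hi.2
  rw [lift_one] at h2
  have h2' : 2 * dg χ = deg2 (Fintype.card F) i := by exact_mod_cast h2
  simp only [Finset.mem_insert, Finset.mem_singleton]
  fin_cases i <;> simp [deg2] at h2' <;> omega

/-- `(q - 1)/2` is not a degree of `PSL₂(q)` for `q ≡ 1 (mod 4)`. -/
theorem psl_no_small [Fintype (Cfsg.IrrCharacter (Matrix.ProjectiveSpecialLinearGroup (Fin 2) F))]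
    {h : ℕ} (hh : Fintype.card F + 1 = 2 * h) (hodd : Odd h) (h5 : 5 ≤ h) :
    ofDeg (Matrix.ProjectiveSpecialLinearGroup (Fin 2) F) (h - 1) = ∅ := by
  classical
  set L := Matrix.ProjectiveSpecialLinearGroup (Fin 2) F with hL
  set q := Fintype.card F with hq
  have hqodd : Odd q := ⟨h - 1, by omega⟩
  have hkind : ∀ χ ∈ ofDeg L (h - 1), Kind 5 (lift χ : SL(2, F) → ℂ) := fun χ hχ =>
    kind_of_degree (by omega) (lift χ).2 (by
      rw [lift_one, mem_ofDeg.1 hχ]
      have : 2 * (h - 1) = q - 1 := by omega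
      simp [deg2, ← hq]
      exact_mod_cast this)
  rw [Finset.eq_empty_iff_forall_notMem]
  intro χ hχ
  -- a second one
  obtain ⟨ψ, hψ, hne, hψ5, -, hψz⟩ := pair_five (by omega) (lift χ).2 (hkind χ hχ)
  have hψ1 : ψ 1 = (lift χ : SL(2, F) → ℂ) 1 := by
    have h1 := hψ5.2
    have h2 := (hkind χ hχ).2
    linear_combination (h1 - h2) / 2
  have htriv : ∀ n ∈ Subgroup.center SL(2, F), ψ n = ψ 1 := fun n hn => by
    rcases center_cases hn with rfl | rfl
    · rfl
    · rw [hψz, hψ1]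
      show (χ : L → ℂ) (QuotientGroup.mk' _ negOne) = (χ : L → ℂ) (QuotientGroup.mk' _ 1)
      rw [(QuotientGroup.eq_one_iff _).2 hn |> fun e => show
        QuotientGroup.mk' (Subgroup.center SL(2, F)) negOne = 1 from e, map_one]
  obtain ⟨φ, -, hφ, hirr⟩ := exists_deflate_quotient (Subgroup.center SL(2, F))
    (isCharacter_of_isIrr hψ) htriv
  set φ' : Cfsg.IrrCharacter L := ⟨φ, hirr hψ⟩ with hφ'
  have hlift : (lift φ' : SL(2, F) → ℂ) = ψ := funext fun g => hφ g
  have hφmem : φ' ∈ ofDeg L (h - 1) := by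
    rw [mem_ofDeg, ← mem_ofDeg.1 hχ]
    apply Nat.cast_injective (R := ℂ)
    rw [← lift_one, ← lift_one, hlift, hψ1]
  have hne' : φ' ≠ χ := fun e => hne (by rw [← hlift, e])
  have h2 : (ofDeg L (h - 1)).card = 2 := by
    have hlow : 1 < (ofDeg L (h - 1)).card := Finset.one_lt_card.2 ⟨φ', hφmem, χ, hχ, hne'⟩
    obtain ⟨k, hk, -, -, -, -, -, f5⟩ := families (F := F)
    have hk2 : k = 2 := hk ▸ GL2.Counts.sq_eq_one_card_odd (GL2.Counts.two_ne_zero_of_odd hqodd)
    have hup : (ofDeg L (h - 1)).card ≤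
        Nat.card {χ : Cfsg.IrrCharacter SL(2, F) // Kind 5 (χ : SL(2, F) → ℂ)} := by
      rw [← Nat.card_eq_finsetCard]
      exact Nat.card_le_card_of_injective (fun x => ⟨lift x.1, hkind x.1 x.2⟩)
        fun a b e => Subtype.ext (lift_injective (congrArg Subtype.val e))
    omega
  -- the sum of the squares of the degrees
  have hmem : ∀ χ : Cfsg.IrrCharacter L, dg χ ∈ ({1, q, q + 1, q - 1, h, h - 1} : Finset ℕ) :=
    psl_deg_cases hh
  have hs := card_eq_sum hmem
  have hone : (ofDeg L 1).card = 1 := by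
    rw [card_ofDeg, Nat.cast_one, card_degree_one, commutator_psl (by omega) (fun _ => by omega), Subgroup.index_top]
  have hst : 1 ≤ (ofDeg L q).card := by
    obtain ⟨n, hn⟩ := (BlocksChars.SL2DegreeGraph.degSet_psl (F := F) (by omega) fun _ => by omega).2.1
    exact Finset.card_pos.2 ⟨n, mem_ofDeg.2 hn⟩
  have hst' : (ofDeg L q).card ≤ 1 := by
    obtain ⟨k, -, -, f1, -, -, -, -⟩ := families (F := F)
    rw [← f1, ← Nat.card_eq_finsetCard]
    refine Nat.card_le_card_of_injective (fun x => ⟨lift x.1, kind_of_degree (by omega) (lift x.1).2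
      (by rw [lift_one, mem_ofDeg.1 x.2]; simp [deg2, ← hq])⟩)
        fun a b e => Subtype.ext (lift_injective (congrArg Subtype.val e))
  have hcard := two_mul_card_psl (F := F) hqodd
  rw [← hq] at hcard
  rw [hs, Finset.sum_insert (by simp; omega), Finset.sum_insert (by simp; omega),
    Finset.sum_insert (by simp; omega), Finset.sum_insert (by simp; omega),
    Finset.sum_insert (by simp; omega), Finset.sum_singleton, hone, h2,
    show (ofDeg L q).card = 1 by omega] at hcard
  set a := (ofDeg L (q + 1)).card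
  set m := (ofDeg L (q - 1)).card
  set b := (ofDeg L h).card
  obtain ⟨w, rfl⟩ : ∃ w, h = w + 1 := ⟨h - 1, by omega⟩
  have hqw : q = 2 * w + 1 := by omega
  rw [hqw] at hcard
  rw [show 2 * w + 1 - 1 = 2 * w by omega, show w + 1 - 1 = w by omega] at hcard
  have hdiv : (w + 1) ∣ 4 * (m + 1) := by
    have hz : ((w : ℤ) + 1) ∣ 4 * ((m : ℤ) + 1) := by
      refine ⟨2 * (w : ℤ) * (2 * w + 1) - 4 * w - (4 * a + b) * (w + 1) - 4 * m * (w - 1)
        - 2 * (w - 1), ?_⟩
      have hc : (2 : ℤ) * (1 * 1 ^ 2 + (1 * (2 * w + 1) ^ 2 + (a * (2 * w + 1 + 1) ^ 2 +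
          (m * (2 * w) ^ 2 + (b * (w + 1) ^ 2 + 2 * w ^ 2))))) =
          (2 * w + 1) * ((2 * w) * (2 * w + 1 + 1)) := by exact_mod_cast hcard
      have hc' := mul_left_cancel₀ (show (2 : ℤ) ≠ 0 by norm_num)
        (hc.trans (show ((2 : ℤ) * w + 1) * (2 * w * (2 * w + 1 + 1)) =
          2 * ((2 * w + 1) * (2 * w * (w + 1))) by ring))
      linear_combination hc'
    exact_mod_cast hz
  have hdiv' : (w + 1) ∣ m + 1 := by
    refine Nat.Coprime.dvd_of_dvd_mul_left ?_ hdiv
    rw [show 4 = 2 ^ 2 by norm_num]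
    exact Nat.Coprime.pow_right 2 (Nat.coprime_two_right.2 hodd)
  have hm : w ≤ m := by
    have := Nat.le_of_dvd (by omega) hdiv'
    omega
  nlinarith [Nat.mul_le_mul_right ((2 * w) ^ 2) hm, Nat.zero_le (a * (2 * w + 1 + 1) ^ 2),
    Nat.zero_le (b * (w + 1) ^ 2)]

/-- A group with the degree multiset of `PSL₂(q)` has the data. -/
theorem data_of_count {G : Type*} [Group G] [Finite G] [Fintype (Cfsg.IrrCharacter G)] {h : ℕ}
    (hh : Fintype.card F + 1 = 2 * h) (hodd : Odd h) (h5 : 5 ≤ h)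
    (hcount : ∀ d : ℕ, Nat.card {χ : Cfsg.IrrCharacter G // (χ : G → ℂ) 1 = (d : ℂ)} =
      Nat.card {χ : Cfsg.IrrCharacter (Matrix.ProjectiveSpecialLinearGroup (Fin 2) F) //
        (χ : Matrix.ProjectiveSpecialLinearGroup (Fin 2) F → ℂ) 1 = (d : ℂ)}) :
    Data G (Fintype.card F) h := by
  classical
  set L := Matrix.ProjectiveSpecialLinearGroup (Fin 2) F with hL
  haveI := Fintype.ofFinite (Cfsg.IrrCharacter L)
  set q := Fintype.card F with hq
  have hqodd : Odd q := ⟨h - 1, by omega⟩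
  have hcL := commutator_psl (F := F) (by omega) (fun _ => by omega)
  have hperf := perfect_of_count hcL hcount
  obtain ⟨e, he⟩ := exists_degree_equiv hcount
  refine ⟨hh, hodd, h5, ?_, hperf, ?_, ?_, fun χ => ?_⟩
  · rw [card_eq_of_count hcount]
    have := two_mul_card_psl (F := F) hqodd
    rw [← hq, hh] at this
    apply Nat.eq_of_mul_eq_mul_left (show 0 < 2 by norm_num)
    rw [this]; ring
  · rw [card_ofDeg, Nat.cast_one, card_degree_one, hperf, Subgroup.index_top]
  · rw [card_ofDeg, hcount]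
    have hst : 1 ≤ (ofDeg L q).card := by
      obtain ⟨n, hn⟩ := (BlocksChars.SL2DegreeGraph.degSet_psl (F := F) (by omega) fun _ => by omega).2.1
      exact Finset.card_pos.2 ⟨n, mem_ofDeg.2 hn⟩
    have hst' : (ofDeg L q).card ≤ 1 := by
      obtain ⟨k, -, -, f1, -, -, -, -⟩ := families (F := F)
      rw [← f1, ← Nat.card_eq_finsetCard]
      refine Nat.card_le_card_of_injective (fun x => ⟨lift x.1, kind_of_degree (by omega) (lift x.1).2
        (by rw [lift_one, mem_ofDeg.1 x.2]; simp [deg2, ← hq])⟩)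
          fun a b e => Subtype.ext (lift_injective (congrArg Subtype.val e))
    rw [card_ofDeg] at hst hst'
    exact le_antisymm hst' hst
  · have hc := psl_deg_cases hh (e χ)
    rw [he] at hc
    have hne : dg χ ≠ h - 1 := fun e' => by
      have : e χ ∈ ofDeg L (h - 1) := mem_ofDeg.2 ((he χ).trans e')
      rw [psl_no_small hh hodd h5] at this
      exact absurd this (Finset.notMem_empty _)
    simp only [Finset.mem_insert, Finset.mem_singleton] at hc ⊢
    tauto

end Cfsg.Agent.DegPSL
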