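import Mathlib
import Cfsg.Agent.DegPSL.PSLData

/-!
# Centralisers of `p`-elements in a group with the degrees of `PSL₂(p²)`

Testing the column of degrees against defect-zero vanishing shows that an element of order `p`
centralises no element of other prime order, so the Sylow `p`-subgroups are trivial-intersection
subgroups which are their own centralisers.
-/

set_option autoImplicit false
set_option linter.unusedSectionVars false
set_option linter.style.haveILetI false

namespace Cfsg.Agent.DegPSL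

open Cfsg.Agent.Characters

universe u

/-- The part at `r` of a product lies in the factor the prime divides. -/
theorem ordProj_dvd_left {r N A B : ℕ} (hr : r.Prime) (hN : N = A * B) (hB : ¬ r ∣ B) :
    r ^ N.factorization r ∣ A :=
  ((hr.coprime_iff_not_dvd.2 hB).pow_left _).dvd_of_dvd_mul_right (hN ▸ Nat.ordProj_dvd N r)

/-- Small integers congruent to `-1` modulo `2w`. -/
theorem cases_plus {a w : ℤ} (hw : 4 ≤ w) (ha : |a| ≤ 2 * w + 1) (hd : 2 * w ∣ a + 1) :
    a = -1 ∨ a = 2 * w - 1 ∨ a = -(2 * w + 1) := by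
  obtain ⟨k, hk⟩ := hd
  obtain ⟨h1, h2⟩ := abs_le.1 ha
  have hk1 : k < 2 := by nlinarith
  have hk2 : -2 < k := by nlinarith
  interval_cases k <;> omega

/-- Small integers congruent to `1` modulo `h`. -/
theorem cases_minus {a h : ℤ} (hh : 3 ≤ h) (ha : |a| ≤ 2 * h - 1) (hd : h ∣ a - 1) :
    a = 1 ∨ a = 1 + h ∨ a = 1 - h ∨ a = -(2 * h - 1) := by
  obtain ⟨k, hk⟩ := hd
  obtain ⟨h1, h2⟩ := abs_le.1 ha
  have hk1 : k < 2 := by nlinarith
  have hk2 : -3 < k := by nlinarith
  interval_cases k <;> omega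

variable {G : Type u} [Group G] [Finite G] [Fintype (Cfsg.IrrCharacter G)] {p q h : ℕ}

/-- The combination of the two families of degree divisible by `h`. -/
noncomputable def tval (q h : ℕ) (g : G) : ℤ := 2 * val (q + 1) g + val h g

variable (D : Data G q h)
include D

theorem Data.val_deg_one (g : G) : val 1 g = 1 := by
  have hmem : trivIrr G ∈ ofDeg G 1 := by
    rw [mem_ofDeg, dg_eq_iff]; simp
  obtain ⟨χ, hχ⟩ := Finset.card_eq_one.1 D.one
  rw [hχ, Finset.mem_singleton] at hmem
  apply Int.cast_injective (α := ℂ)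
  rw [← val_spec, hχ, Finset.sum_singleton, ← hmem]
  simp

theorem Data.exists_st : ∃ St : Cfsg.IrrCharacter G, (St : G → ℂ) 1 = (q : ℂ) ∧
    ∀ g, (St : G → ℂ) g = (val q g : ℂ) := by
  obtain ⟨St, hSt⟩ := Finset.card_eq_one.1 D.st
  refine ⟨St, (dg_eq_iff St q).1 (mem_ofDeg.1 (hSt ▸ Finset.mem_singleton_self St)), fun g => ?_⟩
  rw [← val_spec, hSt, Finset.sum_singleton]

theorem Data.st_bound (g : G) : |val q g| ≤ (q : ℤ) := by
  have := abs_val_le (G := G) q g
  rwa [D.st, Nat.cast_one, one_mul] at this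

theorem Data.st_ne_neg (g : G) : val q g ≠ -(q : ℤ) := fun e => by
  obtain ⟨St, h1, hv⟩ := D.exists_st
  have hq : Odd q := ⟨h - 1, by have := D.hq; have := D.h5; omega⟩
  refine value_ne_neg D.perfect (irr_isCharacter St) h1 hq g ?_
  rw [hv, e]
  push_cast
  ring

/-- The column relation. -/
theorem Data.eqn {g : G} (hg : g ≠ 1) :
    1 + (q : ℤ) * val q g + 2 * ((h : ℤ) - 1) * val (q - 1) g + (h : ℤ) * tval q h g = 0 := by
  have := D.hq
  have := D.h5
  have e := sum_deg_val D.degs hg
  rw [Finset.sum_insert (by simp; omega), Finset.sum_insert (by simp; omega),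
    Finset.sum_insert (by simp; omega), Finset.sum_insert (by simp; omega),
    Finset.sum_singleton, D.val_deg_one, Nat.cast_sub (by omega : 1 ≤ q)] at e
  have hq : (q : ℤ) = 2 * h - 1 := by omega
  push_cast at e
  unfold tval
  rw [hq] at e ⊢
  linear_combination e

variable (hp : p.Prime) (hpq : q = p ^ 2)
include hp hpq

theorem Data.p_ne_two : p ≠ 2 := fun e => by
  subst e
  have := D.hq
  omega

theorem Data.p_not_dvd_h : ¬ p ∣ h := fun e => by
  have h1 : p ∣ q + 1 := D.hq ▸ Dvd.dvd.mul_left e 2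
  exact hp.not_dvd_one ((Nat.dvd_add_right (hpq ▸ dvd_pow_self p two_ne_zero)).1 h1)

theorem Data.p_not_dvd_sub : ¬ p ∣ q - 1 := fun e => by
  have hpos : 0 < q := hpq ▸ pow_pos hp.pos 2
  have h1 := Nat.dvd_sub (hpq ▸ dvd_pow_self p two_ne_zero : p ∣ q) e
  rw [show q - (q - 1) = 1 by omega] at h1
  exact hp.not_dvd_one h1

theorem Data.factorization_p : (Nat.card G).factorization p = 2 := by
  have h2 : ¬ p ∣ (q - 1) * h := fun e =>
    (hp.dvd_mul.1 e).elim (D.p_not_dvd_sub hp hpq) (D.p_not_dvd_h hp hpq)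
  have h0 : (q - 1) * h ≠ 0 := fun e => h2 (e ▸ dvd_zero p)
  rw [D.card, mul_assoc, hpq, Nat.factorization_mul (pow_ne_zero 2 hp.ne_zero) (hpq ▸ h0),
    Finsupp.add_apply, hp.factorization_pow, Finsupp.single_eq_same,
    Nat.factorization_eq_zero_of_not_dvd (hpq ▸ h2)]

/-- The Steinberg value vanishes at `p`-singular elements. -/
theorem Data.st_singular {g : G} (hg : p ∣ orderOf g) : val q g = 0 :=
  val_eq_zero hp (by rw [D.factorization_p hp hpq, hpq]) hg

theorem Data.no_mixed {u y : G} (hu : orderOf u = p) {r : ℕ} (hr : r.Prime) (hrp : r ≠ p)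
    (hy : orderOf y = r) (hc : Commute u y) : False := by
  classical
  have hq := D.hq
  have h5 := D.h5
  have hy1 : y ≠ 1 := fun e => hr.one_lt.ne' (hy ▸ e ▸ orderOf_one)
  have hyr : r ∣ orderOf y := hy ▸ dvd_rfl
  obtain ⟨St, -, hv⟩ := D.exists_st
  set a := val q y with ha
  have hpa : (p : ℤ) ∣ a := by
    refine dvd_of_coset_vanish hu hc (irr_isCharacter St) (hv y) fun t ht ht1 => ?_
    rw [hv, D.st_singular hp hpq, Int.cast_zero]
    obtain ⟨k, rfl⟩ := Subgroup.mem_zpowers_iff.1 ht
    have ho : orderOf (u ^ k) = p := by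
      haveI := Fact.mk hp
      refine orderOf_eq_prime ?_ ht1
      rw [← zpow_natCast, ← zpow_mul, mul_comm, zpow_mul, zpow_natCast, ← hu, pow_orderOf_eq_one,
        one_zpow]
    have hcp : Commute y (u ^ k) := hc.symm.zpow_right k
    rw [hcp.orderOf_mul_eq_mul_orderOf_of_coprime (by
      rw [hy, ho]; exact (Nat.coprime_primes hr hp).2 hrp), ho]
    exact dvd_mul_left _ _
  have hpnot : ∀ n : ℕ, n = 1 ∨ n = 2 → ¬ (p : ℤ) ∣ (n : ℤ) := fun n hn e => by
    have e' : p ∣ n := Int.natCast_dvd_natCast.1 e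
    have := Nat.le_of_dvd (by omega) e'
    have := hp.two_le
    have := D.p_ne_two hp hpq
    omega
  have hpq' : (p : ℤ) ∣ (q : ℤ) := by exact_mod_cast (hpq ▸ dvd_pow_self p two_ne_zero : p ∣ q)
  have hne := D.st_ne_neg y
  have hb := D.st_bound y
  have heq := D.eqn hy1
  rw [← ha] at hne hb heq
  have hqz : (q : ℤ) = 2 * h - 1 := by omega
  have hrq : ¬ r ∣ q := fun e =>
    hrp ((Nat.prime_dvd_prime_iff_eq hr hp).1 (hr.dvd_of_dvd_pow (hpq ▸ e)))
  have hcard := D.card
  by_cases hrm : r ∣ q - 1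
  · -- the characters of degree `q - 1` vanish
    have hrh : ¬ r ∣ h := by
      intro e
      have h1 : r ∣ q + 1 := hq ▸ Dvd.dvd.mul_left e 2
      have h2 : r ∣ (q + 1) - (q - 1) := Nat.dvd_sub h1 hrm
      rw [show (q + 1) - (q - 1) = 2 by omega] at h2
      obtain rfl := (Nat.prime_dvd_prime_iff_eq hr Nat.prime_two).1 h2
      exact (Nat.not_even_iff_odd.2 D.hodd) (even_iff_two_dvd.2 e)
    have hS : val (q - 1) y = 0 :=
      val_eq_zero hr (ordProj_dvd_left hr (by rw [hcard]; ring : Nat.card G = (q - 1) * (q * h))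
        fun e => (hr.dvd_mul.1 e).elim hrq hrh) hyr
    rw [hS, mul_zero, add_zero] at heq
    have hd : (h : ℤ) ∣ a - 1 := ⟨2 * a + tval q h y, by
      rw [hqz] at heq; linear_combination -heq⟩
    rcases cases_minus (by omega) (by rw [← hqz]; exact hb) hd with e | e | e | e
    · exact hpnot 1 (Or.inl rfl) (by simpa [e] using hpa)
    · -- `a = (q + 3) / 2`
      by_cases hr2 : r = 2
      · subst hr2
        have hT : (2 : ℤ) ∣ tval q h y := by
          refine dvd_add ⟨_, rfl⟩ ?_
          have hsum : Cfsg.IsCharacter G (∑ χ ∈ ofDeg G h, (χ : G → ℂ)) :=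
            isCharacter_sum _ (fun χ : Cfsg.IrrCharacter G => (χ : G → ℂ)) fun χ _ =>
              irr_isCharacter χ
          have hz : Even (ofDeg G h).card := by
            have hs := card_eq_sum D.degs
            rw [hcard, Finset.sum_insert (by simp; omega), Finset.sum_insert (by simp; omega),
              Finset.sum_insert (by simp; omega), Finset.sum_insert (by simp; omega),
              Finset.sum_singleton, D.one, D.st] at hs
            obtain ⟨w, hw⟩ := D.hodd
            have hq' : q = 4 * w + 1 := by omega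
            rw [hw, hq', show 4 * w + 1 - 1 = 4 * w by omega] at hs
            rw [hw]
            rw [← Nat.not_odd_iff_even]
            intro ho
            have h1 : Even ((4 * w + 1) * (4 * w) * (2 * w + 1)) := by
              simp [Nat.even_mul, parity_simps]
            rw [hs] at h1
            simp [parity_simps, Nat.not_even_iff_odd.2 ho] at h1
          have hv1 : (∑ χ ∈ ofDeg G h, (χ : G → ℂ)) 1 = (((ofDeg G h).card * h : ℕ) : ℂ) := by
            rw [Finset.sum_apply, val_spec, val_one]; push_cast; rfl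
          have := two_dvd_sub hsum hy (v := val h y) (by rw [Finset.sum_apply, val_spec]) hv1
          obtain ⟨c, hc⟩ := hz
          obtain ⟨d, hd⟩ := this
          exact ⟨(c : ℤ) * h - d, by push_cast [hc] at hd; linear_combination -hd⟩
        obtain ⟨c, hc⟩ := hT
        obtain ⟨w, hw⟩ := D.hodd
        rw [e, hqz, hc] at heq
        have hw' : (h : ℤ) = 2 * w + 1 := by omega
        rw [hw'] at heq
        ring_nf at heq
        omega
      · -- `p = 3`, and then no odd prime divides `q - 1`
        have h3 : p ∣ 3 := by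
          have : (p : ℤ) ∣ ((3 : ℕ) : ℤ) := by
            have := dvd_sub (Dvd.dvd.mul_left hpa 2) hpq'
            rwa [e, hqz, show 2 * (1 + (h : ℤ)) - (2 * h - 1) = ((3 : ℕ) : ℤ) by push_cast; ring]
              at this
          exact Int.natCast_dvd_natCast.1 this
        obtain rfl := (Nat.prime_dvd_prime_iff_eq hp Nat.prime_three).1 h3
        obtain rfl : q = 9 := by rw [hpq]; norm_num
        exact hr2 ((Nat.prime_dvd_prime_iff_eq hr Nat.prime_two).1
          (hr.dvd_of_dvd_pow (show r ∣ 2 ^ 3 by simpa using hrm)))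
    · -- `a = -(q - 1) / 2`
      have : (p : ℤ) ∣ ((1 : ℕ) : ℤ) := by
        have := dvd_add (Dvd.dvd.mul_left hpa 2) hpq'
        rwa [e, hqz, show 2 * (1 - (h : ℤ)) + (2 * h - 1) = ((1 : ℕ) : ℤ) by push_cast; ring]
          at this
      exact hpnot 1 (Or.inl rfl) this
    · exact hne (by rw [hqz]; exact e)
  · -- the characters of degree `q + 1` and `h` vanish
    have hrqm : ¬ r ∣ q * (q - 1) := fun e => (hr.dvd_mul.1 e).elim hrq hrm
    have hd := ordProj_dvd_left hr (by rw [hcard]; ring : Nat.card G = h * (q * (q - 1))) hrqm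
    have hT : tval q h y = 0 := by
      unfold tval
      rw [val_eq_zero hr (hq ▸ Dvd.dvd.mul_left hd 2) hyr, val_eq_zero hr hd hyr]
      ring
    rw [hT, mul_zero, add_zero] at heq
    have hd' : 2 * ((h : ℤ) - 1) ∣ a + 1 := ⟨-a - val (q - 1) y, by
      rw [hqz] at heq; linear_combination heq⟩
    have hb' : |a| ≤ 2 * ((h : ℤ) - 1) + 1 := by
      rw [show 2 * ((h : ℤ) - 1) + 1 = (q : ℤ) by omega]; exact hb
    rcases cases_plus (by omega) hb' hd' with e | e | e
    · exact hpnot 1 (Or.inl rfl) (by simpa [e] using hpa)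
    · have : (p : ℤ) ∣ ((2 : ℕ) : ℤ) := by
        have := dvd_sub hpq' hpa
        rwa [e, hqz, show (2 * (h : ℤ) - 1) - (2 * ((h : ℤ) - 1) - 1) = ((2 : ℕ) : ℤ) by
          push_cast; ring] at this
      exact hpnot 2 (Or.inr rfl) this
    · exact hne (by omega)

/-- The centraliser of an element of order `p` is a `p`-group. -/
theorem Data.centralizer_isPGroup {u : G} (hu : orderOf u = p) :
    IsPGroup p (Subgroup.centralizer ({u} : Set G)) := by
  haveI := Fact.mk hp
  refine IsPGroup.of_card (n := (Nat.card (Subgroup.centralizer ({u} : Set G))).primeFactorsList.length)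
    (Nat.eq_prime_pow_of_unique_prime_dvd Nat.card_pos.ne' fun {r} hr hdvd => ?_)
  by_contra hrp
  haveI := Fact.mk hr
  obtain ⟨y, hy⟩ := exists_prime_orderOf_dvd_card' r hdvd
  exact D.no_mixed hp hpq hu hr hrp (y := y) (by rwa [Subgroup.orderOf_coe])
    ((Subgroup.mem_centralizer_singleton_iff.1 y.2).symm)

theorem Data.card_sylow (P : Sylow p G) : Nat.card (P : Subgroup G) = q := by
  haveI := Fact.mk hp
  rw [P.card_eq_multiplicity, D.factorization_p hp hpq, hpq]

theorem Data.sylow_comm (P : Sylow p G) {x y : G} (hx : x ∈ (P : Subgroup G))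
    (hy : y ∈ (P : Subgroup G)) : x * y = y * x := by
  haveI := Fact.mk hp
  exact congrArg Subtype.val
    (IsPGroup.commutative_of_card_eq_prime_sq (G := (P : Subgroup G)) (p := p)
      (by rw [D.card_sylow hp hpq P, hpq]) ⟨x, hx⟩ ⟨y, hy⟩)

/-- The centraliser of a non-trivial element of a Sylow `p`-subgroup is that subgroup. -/
theorem Data.centralizer_eq (P : Sylow p G) {u : G} (hu : u ∈ (P : Subgroup G)) (hu1 : u ≠ 1) :
    Subgroup.centralizer ({u} : Set G) = (P : Subgroup G) := by
  haveI := Fact.mk hp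
  have hle : (P : Subgroup G) ≤ Subgroup.centralizer ({u} : Set G) := fun x hx =>
    Subgroup.mem_centralizer_singleton_iff.2 (D.sylow_comm hp hpq P hx hu)
  obtain ⟨k, hk⟩ := P.isPGroup' ⟨u, hu⟩
  have hku : u ^ p ^ k = 1 := congrArg Subtype.val hk
  obtain ⟨j, -, hj⟩ := (Nat.dvd_prime_pow hp).1 (orderOf_dvd_of_pow_eq_one hku)
  obtain ⟨i, rfl⟩ : ∃ i, j = i + 1 := ⟨j - 1, by
    rcases j with _ | j
    · exact absurd (orderOf_eq_one_iff.1 (by simpa using hj)) hu1
    · rfl⟩
  have hv : orderOf (u ^ p ^ i) = p := by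
    rw [orderOf_pow' u (pow_ne_zero _ hp.ne_zero), hj,
      Nat.gcd_eq_right (pow_dvd_pow p (Nat.le_succ i)), pow_succ,
      Nat.mul_div_cancel_left p (pow_pos hp.pos i)]
  have hC : IsPGroup p (Subgroup.centralizer ({u} : Set G)) :=
    (D.centralizer_isPGroup hp hpq hv).to_le fun x hx => by
      rw [Subgroup.mem_centralizer_singleton_iff] at hx ⊢
      exact (Commute.pow_right (hx : Commute x u) _).eq
  exact (P.is_maximal' hC hle).symm ▸ rfl

end Cfsg.Agent.DegPSL
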