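import Mathlib
import Cfsg.Prelude.Def_LieExceptional
import Cfsg.Agent.DegPSL.Centralizer

/-!
# The action on the Sylow `p`-subgroups is a Zassenhaus group

The norm of the sum of the characters of degree `q - 1` bounds the number of Sylow `p`-subgroups
by `q + 5`; with the congruence modulo `p` this number is `q + 1`.
-/

set_option autoImplicit false
set_option linter.unusedSectionVars false
set_option linter.style.haveILetI false

namespace Cfsg.Agent.DegPSL

open Cfsg.Agent.Characters MulAction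
open scoped Pointwise

universe u

variable {G : Type u} [Group G] [Finite G] [Fintype (Cfsg.IrrCharacter G)] {p q h : ℕ}
variable (D : Data G q h)
include D

/-- There are `(q - 1) / 4` characters of degree `q - 1`. -/
theorem Data.card_minus : 2 * (ofDeg G (q - 1)).card + 1 = h := by
  have hq := D.hq
  have h5 := D.h5
  have hs := card_eq_sum D.degs
  rw [D.card, Finset.sum_insert (by simp; omega), Finset.sum_insert (by simp; omega),
    Finset.sum_insert (by simp; omega), Finset.sum_insert (by simp; omega),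
    Finset.sum_singleton, D.one, D.st] at hs
  set a := (ofDeg G (q + 1)).card
  set m := (ofDeg G (q - 1)).card
  set b := (ofDeg G h).card
  obtain ⟨w, hw⟩ : ∃ w, h = w + 1 := ⟨h - 1, by omega⟩
  have hqw : q = 2 * w + 1 := by omega
  rw [hqw, hw, show 2 * w + 1 - 1 = 2 * w by omega] at hs
  have hdiv : (w + 1) ∣ 2 * (2 * m + 1) := by
    have hz : ((w : ℤ) + 1) ∣ 2 * (2 * (m : ℤ) + 1) := by
      have hc : (2 * (w : ℤ) + 1) * (2 * w) * (w + 1) = 1 * 1 ^ 2 + (1 * (2 * w + 1) ^ 2 +
          (a * (2 * w + 1 + 1) ^ 2 + (m * (2 * w) ^ 2 + b * (w + 1) ^ 2))) := by exact_mod_cast hs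
      exact ⟨(2 * (w : ℤ) + 1) * (2 * w) - 4 * w - (4 * a + b) * (w + 1) - 4 * m * (w - 1),
        by linear_combination -hc⟩
    exact_mod_cast hz
  have hodd : Odd (w + 1) := hw ▸ D.hodd
  obtain ⟨j, hj⟩ : (w + 1) ∣ 2 * m + 1 :=
    Nat.Coprime.dvd_of_dvd_mul_left (Nat.coprime_two_right.2 hodd) hdiv
  have hj1 : j < 3 := by
    by_contra hcon
    have h1 : 3 * (w + 1) ≤ 2 * m + 1 := by
      rw [hj, mul_comm (w + 1)]; exact Nat.mul_le_mul_right _ (by omega)
    have h2 : (2 * m) * (2 * w ^ 2) ≤ (2 * w + 1) * (2 * w) * (w + 1) := by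
      rw [hs]
      nlinarith [Nat.zero_le (a * (2 * w + 1 + 1) ^ 2), Nat.zero_le (b * (w + 1) ^ 2)]
    nlinarith [Nat.mul_le_mul_right (2 * w ^ 2) (show 3 * w + 2 ≤ 2 * m by omega)]
  interval_cases j <;> omega

variable (hp : p.Prime) (hpq : q = p ^ 2)
include hp hpq

theorem Data.sylow_eq_of_mem (P Q : Sylow p G) {u : G} (hP : u ∈ (P : Subgroup G))
    (hQ : u ∈ (Q : Subgroup G)) (hu : u ≠ 1) : P = Q :=
  Sylow.ext ((D.centralizer_eq hp hpq P hP hu).symm.trans (D.centralizer_eq hp hpq Q hQ hu))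

theorem Data.sylow_count_bound :
    Nat.card (Sylow p G) * (q - 1) + 4 * (h - 1) ^ 2 ≤ 4 * q * h := by
  classical
  haveI := Fintype.ofFinite G
  haveI := Fact.mk hp
  haveI := Fintype.ofFinite (Sylow p G)
  have hq := D.hq
  have h5 := D.h5
  have hm := D.card_minus
  set m := (ofDeg G (q - 1)).card with hmdef
  let U : Sylow p G → Finset G := fun P => Finset.univ.filter fun x => x ∈ (P : Subgroup G) ∧ x ≠ 1
  have hU : ∀ P : Sylow p G, (U P).card = q - 1 := fun P => by
    have h1 : (Finset.univ.filter fun x => x ∈ (P : Subgroup G)).card = q := by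
      rw [← Fintype.card_subtype, ← Nat.card_eq_fintype_card]; exact D.card_sylow hp hpq P
    have h2 : U P = (Finset.univ.filter fun x => x ∈ (P : Subgroup G)).erase 1 := by
      ext x; simp [U, and_comm]
    rw [h2, Finset.card_erase_of_mem (by simp), h1]
  have hdisj : ((Finset.univ : Finset (Sylow p G)) : Set (Sylow p G)).PairwiseDisjoint U := by
    intro P _ Q _ hne
    rw [Function.onFun, Finset.disjoint_left]
    intro x hxP hxQ
    simp only [U, Finset.mem_filter] at hxP hxQ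
    exact hne (D.sylow_eq_of_mem hp hpq P Q hxP.2.1 hxQ.2.1 hxP.2.2)
  set V := Finset.univ.biUnion U with hVdef
  have hV : V.card = Nat.card (Sylow p G) * (q - 1) := by
    rw [hVdef, Finset.card_biUnion hdisj, Finset.sum_congr rfl fun P _ => hU P, Finset.sum_const,
      Finset.card_univ, smul_eq_mul, Nat.card_eq_fintype_card]
  have hV1 : (1 : G) ∉ V := by simp [V, U]
  -- the lower bound on the values
  have hlow : ∀ x ∈ V, ((h : ℤ) - 1) ^ 2 ≤ 4 * val (q - 1) x ^ 2 := by
    intro x hx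
    simp only [V, Finset.mem_biUnion, U, Finset.mem_filter, Finset.mem_univ, true_and] at hx
    obtain ⟨P, hxP, hx1⟩ := hx
    have hpx : p ∣ orderOf x := by
      obtain ⟨k, hk⟩ := P.isPGroup' ⟨x, hxP⟩
      obtain ⟨j, -, hj⟩ := (Nat.dvd_prime_pow hp).1
        (orderOf_dvd_of_pow_eq_one (congrArg Subtype.val hk : x ^ p ^ k = 1))
      rcases j with _ | j
      · exact absurd (orderOf_eq_one_iff.1 (by simpa using hj)) hx1
      · exact hj ▸ dvd_pow_self p (Nat.succ_ne_zero j)
    have e := D.eqn hx1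
    rw [D.st_singular hp hpq hpx, mul_zero, add_zero] at e
    set s := val (q - 1) x
    have hd : (h : ℤ) ∣ 2 * s - 1 := ⟨2 * s + tval q h x, by linear_combination -e⟩
    have habs : (h : ℤ) ≤ |2 * s - 1| :=
      Int.le_of_dvd (abs_pos.2 (by omega)) ((dvd_abs _ _).2 hd)
    have h2 : (h : ℤ) - 1 ≤ |2 * s| := by
      have := abs_sub (2 * s) 1
      rw [abs_one] at this
      omega
    have h3 : ((h : ℤ) - 1) ^ 2 ≤ |2 * s| ^ 2 := pow_le_pow_left₀ (by omega) h2 2
    rw [sq_abs] at h3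
    linarith
  have htot := sum_val_sq (G := G) (q - 1)
  rw [← hmdef] at htot
  have hsub : ∑ x ∈ insert 1 V, val (q - 1) x ^ 2 ≤ ∑ x : G, val (q - 1) x ^ 2 :=
    Finset.sum_le_sum_of_subset_of_nonneg (Finset.subset_univ _) fun x _ _ => sq_nonneg _
  rw [Finset.sum_insert hV1, htot, val_one, ← hmdef, D.card] at hsub
  have hVlow : (V.card : ℤ) * ((h : ℤ) - 1) ^ 2 ≤ 4 * ∑ x ∈ V, val (q - 1) x ^ 2 := by
    rw [Finset.mul_sum]
    refine le_trans (le_of_eq ?_) (Finset.sum_le_sum hlow)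
    rw [Finset.sum_const, nsmul_eq_mul]
  have hcastq : ((q - 1 : ℕ) : ℤ) = 2 * ((h : ℤ) - 1) := by omega
  push_cast at hsub
  rw [hcastq] at hsub
  have hm' : 2 * (m : ℤ) = (h : ℤ) - 1 := by omega
  have hpos : (0 : ℤ) < ((h : ℤ) - 1) ^ 2 := by
    have : (0 : ℤ) < (h : ℤ) - 1 := by omega
    positivity
  have key : (V.card : ℤ) + 4 * ((h : ℤ) - 1) ^ 2 ≤ 4 * q * h := by
    refine le_of_mul_le_mul_right ?_ hpos
    have e1 : 4 * ((m : ℤ) * (2 * ((h : ℤ) - 1))) ^ 2 =
        4 * ((h : ℤ) - 1) ^ 2 * ((h : ℤ) - 1) ^ 2 := by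
      linear_combination (4 * ((h : ℤ) - 1) ^ 2 * (2 * m + ((h : ℤ) - 1))) * hm'
    have e2 : 4 * ((q : ℤ) * (2 * ((h : ℤ) - 1)) * h * m) =
        4 * q * h * ((h : ℤ) - 1) ^ 2 := by
      linear_combination (4 * (q : ℤ) * ((h : ℤ) - 1) * h) * hm'
    nlinarith
  have hh1 : ((h - 1 : ℕ) : ℤ) = (h : ℤ) - 1 := by omega
  rw [← hV]
  zify
  rw [hh1]
  exact key

theorem Data.normalizer_card (P : Sylow p G) :
    ∃ m, Nat.card (Subgroup.normalizer ((P : Subgroup G) : Set G)) = q * m ∧ m ∣ q - 1 := by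
  classical
  haveI := Fact.mk hp
  set N := Subgroup.normalizer ((P : Subgroup G) : Set G) with hN
  have hle : (P : Subgroup G) ≤ N := Subgroup.le_normalizer
  obtain ⟨m, hm⟩ : q ∣ Nat.card N := D.card_sylow hp hpq P ▸ Subgroup.card_dvd_of_le hle
  refine ⟨m, hm, ?_⟩
  -- the orbits on the non-trivial elements
  let X := {u : G // u ∈ (P : Subgroup G) ∧ u ≠ 1}
  letI : MulAction N X :=
    { smul := fun n u => ⟨(n : G) * u.1 * (n : G)⁻¹,
        ⟨(Subgroup.mem_normalizer_iff.1 n.2 u.1).1 u.2.1, fun e => u.2.2 (by simpa using e)⟩⟩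
      one_smul := fun u => Subtype.ext (by
        show ((1 : N) : G) * u.1 * ((1 : N) : G)⁻¹ = u.1
        simp)
      mul_smul := fun a b u => Subtype.ext (by
        show ((a * b : N) : G) * u.1 * ((a * b : N) : G)⁻¹ =
          (a : G) * ((b : G) * u.1 * (b : G)⁻¹) * (a : G)⁻¹
        push_cast
        group) }
  have hstab : ∀ u : X, Nat.card (stabilizer N u) = q := fun u => by
    rw [← D.card_sylow hp hpq P, ← Nat.card_congr (Subgroup.subgroupOfEquivOfLe hle).toEquiv]
    congr 1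
    congr 1
    ext n
    rw [mem_stabilizer_iff, Subgroup.mem_subgroupOf,
      ← D.centralizer_eq hp hpq P u.2.1 u.2.2, Subgroup.mem_centralizer_singleton_iff]
    constructor
    · intro e
      have e' : (n : G) * u.1 * (n : G)⁻¹ = u.1 := congrArg Subtype.val e
      exact mul_inv_eq_iff_eq_mul.1 e'
    · intro e
      exact Subtype.ext (mul_inv_eq_iff_eq_mul.2 e)
  have horb : ∀ u : X, Nat.card (orbit N u) = m := fun u => by
    have h1 := Nat.card_congr (orbitProdStabilizerEquivGroup N u)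
    rw [Nat.card_prod, hstab u, hm, mul_comm] at h1
    exact Nat.eq_of_mul_eq_mul_left (by rw [hpq]; exact pow_pos hp.pos 2) h1
  have hX : Nat.card X = q - 1 := by
    haveI := Fintype.ofFinite G
    rw [Nat.card_eq_fintype_card, Fintype.card_subtype,
      show (Finset.univ.filter fun x => x ∈ (P : Subgroup G) ∧ x ≠ 1) =
        (Finset.univ.filter fun x => x ∈ (P : Subgroup G)).erase 1 by ext x; simp [and_comm],
      Finset.card_erase_of_mem (by simp), ← Fintype.card_subtype, ← Nat.card_eq_fintype_card]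
    exact congrArg (· - 1) (D.card_sylow hp hpq P)
  haveI := Fintype.ofFinite (orbitRel.Quotient N X)
  rw [← hX, Nat.card_congr (selfEquivSigmaOrbits N X), Nat.card_sigma]
  exact Finset.dvd_sum fun ω _ => by rw [horb]

theorem Data.card_sylows : Nat.card (Sylow p G) = 2 * h := by
  haveI := Fact.mk hp
  obtain ⟨P⟩ : Nonempty (Sylow p G) := inferInstance
  have hq := D.hq
  have h5 := D.h5
  obtain ⟨m, hm, o, ho⟩ := D.normalizer_card hp hpq P
  have hidx : Nat.card (Sylow p G) =
      (Subgroup.normalizer ((P : Subgroup G) : Set G)).index := Sylow.card_eq_index_normalizer P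
  have htot := Subgroup.card_mul_index (Subgroup.normalizer ((P : Subgroup G) : Set G))
  rw [← hidx, hm, D.card, ho] at htot
  have hm0 : 0 < m := Nat.pos_of_ne_zero fun e => by
    rw [e, zero_mul] at ho; omega
  have hn : Nat.card (Sylow p G) = o * h := by
    refine Nat.eq_of_mul_eq_mul_left (show 0 < q * m from Nat.mul_pos (by omega) hm0) ?_
    rw [htot]; ring
  have hb := D.sylow_count_bound hp hpq
  rw [hn] at hb
  obtain ⟨w, hw⟩ : ∃ w, h = w + 1 := ⟨h - 1, by omega⟩
  have hqw : q = 2 * w + 1 := by omega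
  rw [hqw, hw, show 2 * w + 1 - 1 = 2 * w by omega, show w + 1 - 1 = w by omega] at hb
  have ho3 : o < 3 := by
    by_contra hcon
    have : 3 * (w + 1) * (2 * w) ≤ o * (w + 1) * (2 * w) :=
      Nat.mul_le_mul_right _ (Nat.mul_le_mul_right _ (by omega))
    nlinarith
  interval_cases o
  · omega
  · exfalso
    have hmod := card_sylow_modEq_one p G
    rw [hn, one_mul] at hmod
    have h2 : 2 * h ≡ 2 * 1 [MOD p] := hmod.mul_left 2
    rw [← hq] at h2
    have h3 : q + 1 ≡ 0 + 1 [MOD p] :=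
      ((Nat.modEq_zero_iff_dvd).2 (hpq ▸ dvd_pow_self p two_ne_zero)).add_right 1
    have h4 : (0 + 1) ≡ 2 * 1 [MOD p] := h3.symm.trans h2
    have h1 : 1 % p = 1 := Nat.mod_eq_of_lt hp.one_lt
    have h2' : 2 % p = 2 := Nat.mod_eq_of_lt (by
      have := hp.two_le; have := D.p_ne_two hp hpq; omega)
    simp [Nat.ModEq, h1, h2'] at h4
  · omega

theorem Data.normalizer_card_eq (P : Sylow p G) :
    Nat.card (Subgroup.normalizer ((P : Subgroup G) : Set G)) = q * (h - 1) := by
  haveI := Fact.mk hp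
  have htot := Subgroup.card_mul_index (Subgroup.normalizer ((P : Subgroup G) : Set G))
  rw [show (Subgroup.normalizer ((P : Subgroup G) : Set G)).index = Nat.card (Sylow p G) from
      (Sylow.card_eq_index_normalizer P).symm, D.card_sylows hp hpq, D.card] at htot
  have hq := D.hq
  have h5 := D.h5
  refine Nat.eq_of_mul_eq_mul_right (show 0 < 2 * h by omega) ?_
  rw [htot, show q - 1 = 2 * (h - 1) by omega]
  ring

theorem Data.eq_one_of_fix {u : G} {P : Sylow p G} (hu : u ∈ (P : Subgroup G)) {Q : Sylow p G}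
    (hQ : u • Q = Q) (hne : Q ≠ P) : u = 1 := by
  haveI := Fact.mk hp
  by_contra hu1
  refine hne (D.sylow_eq_of_mem hp hpq Q P ?_ hu hu1)
  have hn : u ∈ Subgroup.normalizer ((Q : Subgroup G) : Set G) := Sylow.smul_eq_iff_mem_normalizer.1 hQ
  obtain ⟨k, hk⟩ := P.isPGroup' ⟨u, hu⟩
  have hle : Subgroup.zpowers u ≤ (Q : Subgroup G) ⊔ Subgroup.zpowers u := le_sup_right
  have hpu : IsPGroup p (Subgroup.zpowers u) :=
    (P.isPGroup').to_le ((Subgroup.zpowers_le).2 hu)
  have hsup : IsPGroup p ((Q : Subgroup G) ⊔ Subgroup.zpowers u : Subgroup G) :=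
    Q.isPGroup'.to_sup_of_normal_left' hpu ((Subgroup.zpowers_le).2 hn)
  exact Q.is_maximal' hsup le_sup_left ▸ hle (Subgroup.mem_zpowers u)

theorem Data.exists_smul (P : Sylow p G) {Q R : Sylow p G} (hQ : Q ≠ P) (hR : R ≠ P) :
    ∃ u ∈ (P : Subgroup G), u • Q = R := by
  classical
  haveI := Fact.mk hp
  haveI := Fintype.ofFinite (Sylow p G)
  haveI := Fintype.ofFinite (P : Subgroup G)
  let f : ↥(P : Subgroup G) → {R : Sylow p G // R ≠ P} := fun u => ⟨(u : G) • Q, fun e => hQ (by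
    have hu : (u : G) • P = P := Sylow.smul_eq_iff_mem_normalizer.2 (Subgroup.le_normalizer u.2)
    exact MulAction.injective (u : G) (e.trans hu.symm))⟩
  have hinj : Function.Injective f := fun u v e => by
    have e' : (u : G) • Q = (v : G) • Q := congrArg Subtype.val e
    have h1 : ((v⁻¹ * u : (P : Subgroup G)) : G) = 1 :=
      D.eq_one_of_fix hp hpq (v⁻¹ * u : (P : Subgroup G)).2 (by
        rw [Subgroup.coe_mul, Subgroup.coe_inv, mul_smul, e', inv_smul_smul]) hQ
    rw [Subgroup.coe_mul, Subgroup.coe_inv, inv_mul_eq_one] at h1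
    exact Subtype.ext h1.symm
  have hcard : Nat.card (P : Subgroup G) = Nat.card {R : Sylow p G // R ≠ P} := by
    rw [D.card_sylow hp hpq, Nat.card_eq_fintype_card, Fintype.card_subtype_compl,
      Fintype.card_subtype_eq, ← Nat.card_eq_fintype_card, D.card_sylows hp hpq]
    have := D.hq
    omega
  obtain ⟨u, hu⟩ := ((Nat.bijective_iff_injective_and_card f).2 ⟨hinj, hcard⟩).2 ⟨R, hR⟩
  exact ⟨u, u.2, congrArg Subtype.val hu⟩

theorem Data.eq_one_of_fix_three {d : G} {P Q R : Sylow p G} (hPQ : P ≠ Q) (hQR : Q ≠ R)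
    (hPR : P ≠ R) (hP : d • P = P) (hQ : d • Q = Q) (hR : d • R = R) : d = 1 := by
  haveI := Fact.mk hp
  obtain ⟨x, hx, hxQ⟩ := D.exists_smul hp hpq P hPQ.symm hPR.symm
  have hx1 : x ≠ 1 := fun e => hQR (by rw [← hxQ, e, one_smul])
  have hx' : d * x * d⁻¹ ∈ (P : Subgroup G) :=
    (Subgroup.mem_normalizer_iff.1 (Sylow.smul_eq_iff_mem_normalizer.1 hP) x).1 hx
  have h1 : x⁻¹ * (d * x * d⁻¹) = 1 := by
    refine D.eq_one_of_fix hp hpq (mul_mem (inv_mem hx) hx') (Q := Q) ?_ hPQ.symm
    simp only [mul_smul]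
    rw [show d⁻¹ • Q = Q from inv_smul_eq_iff.2 hQ.symm, hxQ, hR, ← hxQ, inv_smul_smul]
  have hc : d * x = x * d := mul_inv_eq_iff_eq_mul.1 (inv_mul_eq_one.1 h1).symm
  have hd : d ∈ (P : Subgroup G) := by
    rw [← D.centralizer_eq hp hpq P hx hx1, Subgroup.mem_centralizer_singleton_iff]
    exact hc
  exact D.eq_one_of_fix hp hpq hd hQ hPQ.symm

theorem Data.exists_third (P Q : Sylow p G) : ∃ R : Sylow p G, R ≠ P ∧ R ≠ Q := by
  classical
  haveI := Fintype.ofFinite (Sylow p G)
  have hn := D.card_sylows hp hpq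
  rw [Nat.card_eq_fintype_card, ← Finset.card_univ] at hn
  have h2 : ({P, Q} : Finset (Sylow p G)).card ≤ 2 := Finset.card_le_two
  obtain ⟨R, -, hR⟩ := Finset.exists_mem_notMem_of_card_lt_card
    (s := ({P, Q} : Finset (Sylow p G))) (t := Finset.univ) (by have := D.h5; omega)
  exact ⟨R, by simpa using hR⟩

theorem Data.isPretransitive : MulAction.IsMultiplyPretransitive G (Sylow p G) 2 := by
  haveI := Fact.mk hp
  rw [MulAction.is_two_pretransitive_iff]
  intro a b c d hab hcd
  obtain ⟨g, hg⟩ := MulAction.exists_smul_eq G a c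
  have hgb : g • b ≠ c := fun e => hab (MulAction.injective g (hg.trans e.symm))
  obtain ⟨x, hx, hxd⟩ := D.exists_smul hp hpq c hgb hcd.symm
  refine ⟨x * g, ?_, by rw [mul_smul, hxd]⟩
  rw [mul_smul, hg]
  exact Sylow.smul_eq_iff_mem_normalizer.2 (Subgroup.le_normalizer hx)

theorem Data.two_point_card {P Q : Sylow p G} (hne : P ≠ Q) :
    Nat.card ↥(stabilizer G P ⊓ stabilizer G Q) = h - 1 := by
  classical
  haveI := Fact.mk hp
  haveI := Fintype.ofFinite (Sylow p G)
  have hstabP : Nat.card (stabilizer G P) = q * (h - 1) := by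
    rw [Sylow.stabilizer_eq_normalizer]; exact D.normalizer_card_eq hp hpq P
  have horb : orbit (stabilizer G P) Q = {R | R ≠ P} := by
    ext R
    rw [mem_orbit_iff, Set.mem_setOf_eq]
    constructor
    · rintro ⟨g, rfl⟩ e
      exact hne (MulAction.injective (g : G) ((mem_stabilizer_iff.1 g.2).trans e.symm))
    · intro hR
      obtain ⟨x, hx, hxR⟩ := D.exists_smul hp hpq P hne.symm hR
      exact ⟨⟨x, mem_stabilizer_iff.2
        (Sylow.smul_eq_iff_mem_normalizer.2 (Subgroup.le_normalizer hx))⟩, hxR⟩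
  have h1 := Nat.card_congr (orbitProdStabilizerEquivGroup (stabilizer G P) Q)
  rw [Nat.card_prod, hstabP, horb] at h1
  have hc : Nat.card ↥({R : Sylow p G | R ≠ P}) = q := by
    show Nat.card {R : Sylow p G // R ≠ P} = q
    rw [Nat.card_eq_fintype_card, Fintype.card_subtype_compl, Fintype.card_subtype_eq,
      ← Nat.card_eq_fintype_card, D.card_sylows hp hpq]
    have := D.hq
    omega
  have hs : Nat.card ↥(stabilizer (stabilizer G P) Q) =
      Nat.card ↥(stabilizer G P ⊓ stabilizer G Q) := by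
    rw [show stabilizer (stabilizer G P) Q = (stabilizer G Q).subgroupOf (stabilizer G P) from by
        ext x; rfl,
      ← Subgroup.inf_subgroupOf_left,
      Nat.card_congr (Subgroup.subgroupOfEquivOfLe inf_le_left).toEquiv]
  rw [hc, hs] at h1
  exact Nat.eq_of_mul_eq_mul_left (by rw [hpq]; exact pow_pos hp.pos 2) h1

theorem Data.not_regular (R : Subgroup G) [R.Normal] (hR : IsPretransitive R (Sylow p G)) :
    ∃ a : Sylow p G, stabilizer R a ≠ ⊥ := by
  classical
  by_contra hcon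
  push Not at hcon
  haveI := Fact.mk hp
  haveI := Fintype.ofFinite G
  obtain ⟨P⟩ : Nonempty (Sylow p G) := inferInstance
  have hq := D.hq
  have h5 := D.h5
  have hR2 : Nat.card R = 2 * h := by
    have h1 := Nat.card_congr (orbitProdStabilizerEquivGroup R P)
    rw [Nat.card_prod, hcon P, Subgroup.card_bot, mul_one, orbit_eq_univ, Nat.card_univ,
      D.card_sylows hp hpq] at h1
    exact h1.symm
  haveI := Fact.mk Nat.prime_two
  obtain ⟨r, hr⟩ := exists_prime_orderOf_dvd_card' 2 (hR2 ▸ dvd_mul_right 2 h)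
  set r0 : G := (r : G) with hr0
  have hr2 : orderOf r0 = 2 := by rw [hr0, Subgroup.orderOf_coe, hr]
  have hrne : r0 ≠ 1 := fun e => by rw [e, orderOf_one] at hr2; omega
  -- conjugation by `P` is semiregular, hence transitive, on the non-trivial elements of `R`
  let f : ↥(P : Subgroup G) → {x : G // x ∈ R ∧ x ≠ 1} := fun u =>
    ⟨(u : G) * r0 * (u : G)⁻¹, Subgroup.Normal.conj_mem inferInstance _ r.2 _,
      fun e => hrne (by simpa using e)⟩
  have hinj : Function.Injective f := fun u v e => by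
    by_contra hne
    have e' : (u : G) * r0 * (u : G)⁻¹ = (v : G) * r0 * (v : G)⁻¹ := congrArg Subtype.val e
    have hw : (v : G)⁻¹ * u ∈ (P : Subgroup G) := mul_mem (inv_mem v.2) u.2
    have hw1 : (v : G)⁻¹ * u ≠ 1 := fun h1 => hne (Subtype.ext (inv_mul_eq_one.1 h1).symm)
    have hrC : r0 ∈ (P : Subgroup G) := by
      rw [← D.centralizer_eq hp hpq P hw hw1, Subgroup.mem_centralizer_singleton_iff]
      calc r0 * ((v : G)⁻¹ * u)
          = (v : G)⁻¹ * ((v : G) * r0 * (v : G)⁻¹) * u := by group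
        _ = (v : G)⁻¹ * ((u : G) * r0 * (u : G)⁻¹) * u := by rw [e']
        _ = (v : G)⁻¹ * u * r0 := by group
    have hfix : (⟨r0, r.2⟩ : R) ∈ stabilizer R P :=
      mem_stabilizer_iff.2 (Sylow.smul_eq_iff_mem_normalizer.2 (Subgroup.le_normalizer hrC))
    rw [hcon P, Subgroup.mem_bot] at hfix
    exact hrne (congrArg Subtype.val hfix)
  have hcard : Nat.card (P : Subgroup G) = Nat.card {x : G // x ∈ R ∧ x ≠ 1} := by
    rw [D.card_sylow hp hpq, Nat.card_eq_fintype_card, Fintype.card_subtype,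
      show (Finset.univ.filter fun x => x ∈ R ∧ x ≠ 1) =
        (Finset.univ.filter fun x => x ∈ R).erase 1 by ext x; simp [and_comm],
      Finset.card_erase_of_mem (by simp), ← Fintype.card_subtype, ← Nat.card_eq_fintype_card]
    change q = Nat.card R - 1
    omega
  have hsurj := ((Nat.bijective_iff_injective_and_card f).2 ⟨hinj, hcard⟩).2
  obtain ⟨s, hs, hsh⟩ := Nat.exists_prime_and_dvd (show h ≠ 1 by omega)
  haveI := Fact.mk hs
  obtain ⟨z, hz⟩ := exists_prime_orderOf_dvd_card' s (hR2 ▸ Dvd.dvd.mul_left hsh 2)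
  have hz1 : (z : G) ≠ 1 := fun e => by
    rw [← Subgroup.orderOf_coe, e, orderOf_one] at hz
    exact hs.one_lt.ne hz
  obtain ⟨u, hu⟩ := hsurj ⟨(z : G), z.2, hz1⟩
  have ho : orderOf (z : G) = 2 := by
    rw [show (z : G) = (u : G) * r0 * (u : G)⁻¹ from (congrArg Subtype.val hu).symm,
      ← hr2, ← MulAut.conj_apply, MulEquiv.orderOf_eq]
  rw [Subgroup.orderOf_coe, hz] at ho
  subst ho
  exact (Nat.not_even_iff_odd.2 D.hodd) (even_iff_two_dvd.2 hsh)

theorem Data.isZassenhaus : Cfsg.IsZassenhausGroup G (Sylow p G) := by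
  haveI := Fact.mk hp
  refine ⟨⟨fun {g₁ g₂} hg => ?_⟩, D.isPretransitive hp hpq, ?_, ?_, fun N hN hT => by
    haveI := hN
    exact D.not_regular hp hpq N hT⟩
  · obtain ⟨P⟩ : Nonempty (Sylow p G) := inferInstance
    obtain ⟨Q, hQ, -⟩ := D.exists_third hp hpq P P
    obtain ⟨R, hRP, hRQ⟩ := D.exists_third hp hpq P Q
    have hfix : ∀ S : Sylow p G, (g₁⁻¹ * g₂) • S = S := fun S => by
      rw [mul_smul, ← hg, inv_smul_smul]
    exact inv_mul_eq_one.1
      (D.eq_one_of_fix_three hp hpq hQ.symm hRQ.symm hRP.symm (hfix P) (hfix Q) (hfix R))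
  · intro g a b c hab hbc hac ha hb hc
    exact D.eq_one_of_fix_three hp hpq hab hbc hac ha hb hc
  · obtain ⟨P⟩ : Nonempty (Sylow p G) := inferInstance
    obtain ⟨Q, hQ, -⟩ := D.exists_third hp hpq P P
    have hc := D.two_point_card hp hpq hQ.symm
    have hne : stabilizer G P ⊓ stabilizer G Q ≠ ⊥ := fun e => by
      rw [e, Subgroup.card_bot] at hc
      have := D.h5
      omega
    obtain ⟨g, hg, hg1⟩ := (Subgroup.bot_or_exists_ne_one _).resolve_left hne
    exact ⟨g, hg1, P, Q, hQ.symm, hg.1, hg.2⟩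

end Cfsg.Agent.DegPSL
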